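import Mathlib
import Groth.Agent.LimTop.Cons
import Groth.Agent.LimTop.Descend
import Groth.Agent.LimTop.Closure
import Groth.Agent.FDesc.ProConsImage

/-!
# Pro- and ind-constructible subsets of schemes: characterisations and images
-/

set_option autoImplicit false
universe u

open CategoryTheory CategoryTheory.Limits AlgebraicGeometry Topology TopologicalSpace

namespace Groth.Agent.ProConsX.Basic

theorem isIndConstructible_compl {X : Type*} [TopologicalSpace X] {F : Set X}
    (hF : ProCons.IsProConstructible F) : ProCons.IsIndConstructible Fᶜ := by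
  intro x
  obtain ⟨U, hU, hx, S, hS, e⟩ := hF x
  refine ⟨U, hU, hx, compl '' S, ?_, ?_⟩
  · rintro _ ⟨T, hT, rfl⟩
    exact LimTop.isLocallyConstructible_compl (hS T hT)
  · rw [Set.preimage_compl, e, Set.compl_sInter]

theorem isProConstructible_iff {X : Scheme.{u}} {E : Set X} :
    ProCons.IsProConstructible E ↔
      ∀ U : X.Opens, IsAffineOpen U → IsClosed[constructibleTopology U.toScheme] (U.ι ⁻¹' E) :=
  ⟨fun h U hU => haveI : IsAffine U.toScheme := hU; LimTop.isClosed_cons_preimage U.ι h,
    FDesc.ProConsImage.isProConstructible_of_isClosed_cons⟩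

theorem isIndConstructible_iff {X : Scheme.{u}} {E : Set X} :
    ProCons.IsIndConstructible E ↔
      ∀ U : X.Opens, IsAffineOpen U → IsOpen[constructibleTopology U.toScheme] (U.ι ⁻¹' E) := by
  refine ⟨fun h U hU => haveI : IsAffine U.toScheme := hU; LimTop.isOpen_cons_preimage U.ι h,
    fun h => ?_⟩
  rw [← compl_compl E]
  refine isIndConstructible_compl (isProConstructible_iff.mpr fun U hU => ?_)
  rw [Set.preimage_compl]
  exact (@isClosed_compl_iff _ (constructibleTopology _) _).mpr (h U hU)

/-- Locally constructible = ind-constructible and pro-constructible. -/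
theorem isLocallyConstructible_iff {X : Scheme.{u}} {E : Set X} :
    IsLocallyConstructible E ↔ ProCons.IsIndConstructible E ∧ ProCons.IsProConstructible E := by
  refine ⟨fun h => ⟨LimTop.isIndConstructible_of_isLocallyConstructible h,
    LimTop.isProConstructible_of_isLocallyConstructible h⟩, fun ⟨hi, hp⟩ => ?_⟩
  refine IsLocallyConstructible.of_isOpenCover (U := fun V : X.affineOpens => (V : X.Opens))
    (iSup_affineOpens_eq_top X) fun V => ?_
  have : IsAffine (V : X.Opens).toScheme := V.2
  have ho := isIndConstructible_iff.mp hi V V.2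
  have hc := isProConstructible_iff.mp hp V V.2
  set O : Set (V : X.Opens).toScheme := (V : X.Opens).ι ⁻¹' E
  have hcl : IsClosed (WithTopology.ofTopology ⁻¹' O : Set (WithConstructibleTopology (V : X.Opens).toScheme)) :=
    (WithTopology.isClosed_iff _).mpr hc
  choose C hC hxC hCO using fun x : O => FDesc.ProConsImage.exists_isConstructible_subset ho x.2
  obtain ⟨t, ht⟩ := hcl.isCompact.elim_finite_subcover
    (fun x : O => (WithTopology.ofTopology ⁻¹' C x : Set (WithConstructibleTopology (V : X.Opens).toScheme)))
    (fun x => (WithTopology.isOpen_iff _).mpr (LimTop.isClopen_cons_of_isConstructible (hC x)).1)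
    (fun z hz => Set.mem_iUnion.mpr ⟨⟨z.ofTopology, hz⟩, hxC _⟩)
  have e : O = ⋃ x ∈ (t : Set O), C x := by
    refine subset_antisymm (fun z hz => ?_) (Set.iUnion₂_subset fun x _ => hCO x)
    have := ht (show WithTopology.toTopology _ z ∈ WithTopology.ofTopology ⁻¹' O from hz)
    simpa using this
  show IsLocallyConstructible O
  rw [e]
  exact (IsConstructible.biUnion t.finite_toSet fun x _ => hC x).isLocallyConstructible

/-- Images of ind-constructible sets along morphisms locally of finite presentation. -/
theorem isIndConstructible_image {X' X : Scheme.{u}} (f : X' ⟶ X) [LocallyOfFinitePresentation f]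
    {E' : Set X'} (hE' : ProCons.IsIndConstructible E') : ProCons.IsIndConstructible (f.base '' E') := by
  refine isIndConstructible_iff.mpr fun V hV => ?_
  have : IsAffine V.toScheme := hV
  rw [show V.ι ⁻¹' (f.base '' E') = ⋃₀ {T : Set V.toScheme | IsConstructible T ∧ T ⊆ V.ι ⁻¹' (f.base '' E')} from ?_]
  · exact @isOpen_sUnion _ (constructibleTopology _) _ fun T hT => (LimTop.isClopen_cons_of_isConstructible hT.1).1
  refine subset_antisymm ?_ (Set.sUnion_subset fun T hT => hT.2)
  rintro z ⟨x', hx', hz⟩
  have hxV : x' ∈ f ⁻¹ᵁ V := by show f.base x' ∈ V; rw [hz]; exact z.2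
  obtain ⟨_, ⟨U', hU', rfl⟩, hxU, hUV⟩ :=
    X'.isBasis_affineOpens.exists_subset_of_mem_open hxV (f ⁻¹ᵁ V).2
  have : IsAffine (Scheme.Opens.toScheme U') := hU'
  obtain ⟨C, hC, hxC, hCE⟩ := FDesc.ProConsImage.exists_isConstructible_subset
    (isIndConstructible_iff.mp hE' U' hU') (x := (⟨x', hxU⟩ : Scheme.Opens.toScheme U')) hx'
  have hle : U' ≤ f ⁻¹ᵁ V := hUV
  let h := f.resLE V U' hle
  have hh : ∀ p : Scheme.Opens.toScheme U', (h p).1 = f.base p.1 := fun p =>
    ((Scheme.Hom.comp_apply _ _ _).symm.trans
      (congr($(Scheme.Hom.resLE_comp_ι f hle) p))).trans (Scheme.Hom.comp_apply _ _ _)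
  refine Set.mem_sUnion.mpr ⟨h.base '' C, ⟨h.isConstructible_image hC, ?_⟩, ⟨_, hxC, Subtype.ext ?_⟩⟩
  · rintro _ ⟨p, hp, rfl⟩
    exact ⟨p.1, hCE hp, (hh p).symm⟩
  · exact (hh _).trans hz

theorem isProConstructible_iff_preimage {X Y : Scheme.{u}} (f : X ⟶ Y) [Surjective f]
    (hf : QuasiCompact f ∨ LocallyOfFinitePresentation f) (E : Set Y) :
    ProCons.IsProConstructible E ↔ ProCons.IsProConstructible (f.base ⁻¹' E) := by
  refine ⟨fun h => LimTop.isProConstructible_preimage f h, fun h => ?_⟩
  rcases hf with hf | hf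
  · have := FDesc.ProConsImage.isProConstructible_image f h
    rwa [Set.image_preimage_eq _ f.surjective] at this
  · have := isIndConstructible_image f (isIndConstructible_compl h)
    rw [← Set.preimage_compl, Set.image_preimage_eq _ f.surjective] at this
    simpa using LimTop.isProConstructible_compl this

theorem isIndConstructible_iff_preimage {X Y : Scheme.{u}} (f : X ⟶ Y) [Surjective f]
    (hf : QuasiCompact f ∨ LocallyOfFinitePresentation f) (E : Set Y) :
    ProCons.IsIndConstructible E ↔ ProCons.IsIndConstructible (f.base ⁻¹' E) := by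
  constructor
  · intro h
    have := isIndConstructible_compl ((LimTop.isProConstructible_preimage f (LimTop.isProConstructible_compl h)))
    rwa [Set.preimage_compl, compl_compl] at this
  · intro h
    have := LimTop.isProConstructible_compl h
    rw [← Set.preimage_compl] at this
    simpa using isIndConstructible_compl ((isProConstructible_iff_preimage f hf _).mpr this)

/-- Finite intersections of pro-constructible sets contained in an ind-constructible set. -/
theorem exists_finite_subfamily {X : Scheme.{u}} [CompactSpace X] {E : Set X}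
    (hE : ProCons.IsIndConstructible E) {ι : Type*} (F : ι → Set X) (hF : ∀ i, ProCons.IsProConstructible (F i))
    (h : ⋂ i, F i ⊆ E) : ∃ J : Finset ι, ⋂ i ∈ J, F i ⊆ E := by
  classical
  have := (inferInstance :
    MorphismProperty.IsMultiplicative (@IsLocalIso : MorphismProperty Scheme.{u})).toContainsIdentities
  obtain ⟨W, p, hp, -, hW⟩ :=
    Scheme.exists_hom_isAffine_of_isZariskiLocalAtSource (@IsLocalIso : MorphismProperty Scheme.{u}) X
  let t : ι → Set (WithConstructibleTopology W) := fun i => WithTopology.ofTopology ⁻¹' (p.base ⁻¹' F i)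
  have hc : IsCompact (WithTopology.ofTopology ⁻¹' (p.base ⁻¹' Eᶜ) : Set (WithConstructibleTopology W)) :=
    IsClosed.isCompact (by
      rw [WithTopology.isClosed_iff]
      exact LimTop.isClosed_cons_preimage p (LimTop.isProConstructible_compl hE))
  obtain ⟨J, hJ⟩ := hc.elim_finite_subfamily_closed t
    (fun i => by rw [WithTopology.isClosed_iff]; exact LimTop.isClosed_cons_preimage p (hF i)) (by
      refine Set.eq_empty_iff_forall_notMem.mpr fun w ⟨hwE, hw⟩ => hwE (h ?_)
      exact Set.mem_iInter.mpr fun i => Set.mem_iInter.mp hw i)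
  refine ⟨J, fun x hx => ?_⟩
  by_contra hxE
  obtain ⟨w, rfl⟩ := p.surjective x
  exact Set.eq_empty_iff_forall_notMem.mp hJ (WithTopology.toTopology _ w)
    ⟨hxE, Set.mem_iInter₂.mpr fun i hi => Set.mem_iInter₂.mp hx i hi⟩

theorem mem_interior_iff {X : Scheme.{u}} {E : Set X} (hE : ProCons.IsIndConstructible E) (x : X) :
    x ∈ interior E ↔ ∀ x' : X, x' ⤳ x → x' ∈ E := by
  refine ⟨fun hx x' h => interior_subset (h.mem_open isOpen_interior hx), fun h => ?_⟩
  by_contra hx
  rw [interior_eq_compl_closure_compl, Set.notMem_compl_iff] at hx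
  obtain ⟨z, hz, hzx⟩ := LimTop.exists_specializes_of_mem_closure (LimTop.isProConstructible_compl hE) hx
  exact hz (h z hzx)

end Groth.Agent.ProConsX.Basic
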