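import Groth.Agent.ProConsX.Basic

/-!
# Constructibly closed sets are images of affine schemes
-/

set_option autoImplicit false
universe u

open CategoryTheory CategoryTheory.Limits AlgebraicGeometry Topology TopologicalSpace

namespace Groth.Agent.ProConsX.Range

open PrimeSpectrum in
/-- Every neighbourhood in the constructible topology of `Spec A` contains a piece `D(g) ∩ V(a)`. -/
theorem exists_piece {A : Type u} [CommRing A] {O : Set (PrimeSpectrum A)}
    (hO : IsOpen[constructibleTopology (PrimeSpectrum A)] O) {p₀ : PrimeSpectrum A} (hp₀ : p₀ ∈ O) :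
    ∃ (g : A) (a : Finset A), g ∉ p₀.asIdeal ∧ (∀ x ∈ a, x ∈ p₀.asIdeal) ∧
      ∀ p : PrimeSpectrum A, g ∉ p.asIdeal → (∀ x ∈ a, x ∈ p.asIdeal) → p ∈ O := by
  classical
  change TopologicalSpace.GenerateOpen (constructibleTopologySubbasis (PrimeSpectrum A)) O at hO
  induction hO with
  | basic s hs =>
    rcases hs with ⟨ho, -⟩ | ⟨hcl, hc⟩
    · obtain ⟨_, ⟨g, rfl⟩, hg, hgs⟩ := isTopologicalBasis_basic_opens.exists_subset_of_mem_open hp₀ ho
      exact ⟨g, ∅, hg, by simp, fun p hp _ => hgs hp⟩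
    · obtain ⟨a, ha⟩ := isCompact_open_iff_eq_finite_iUnion_of_isTopologicalBasis
        (fun g : A => (basicOpen g : Set (PrimeSpectrum A))) isTopologicalBasis_basic_opens
        (fun g => isCompact_basicOpen g) _ |>.mp ⟨hc, hcl.isOpen_compl⟩
      obtain ⟨hfin, hU⟩ := ha
      refine ⟨1, hfin.toFinset, fun h => p₀.isPrime.ne_top ((Ideal.eq_top_iff_one _).mpr h), fun x hx => ?_, fun p _ hp => ?_⟩
      · by_contra hxp
        have : p₀ ∈ sᶜ := hU ▸ Set.mem_iUnion₂.mpr ⟨x, hfin.mem_toFinset.mp hx, hxp⟩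
        exact this hp₀
      · by_contra hps
        have : p ∈ sᶜ := hps
        rw [hU] at this
        obtain ⟨x, hx, hxp⟩ := Set.mem_iUnion₂.mp this
        exact hxp (hp x (hfin.mem_toFinset.mpr hx))
  | univ => exact ⟨1, ∅, fun h => p₀.isPrime.ne_top ((Ideal.eq_top_iff_one _).mpr h), by simp, fun _ _ _ => trivial⟩
  | inter s t _ _ ih₁ ih₂ =>
    obtain ⟨g₁, a₁, h₁, ha₁, hs₁⟩ := ih₁ hp₀.1
    obtain ⟨g₂, a₂, h₂, ha₂, hs₂⟩ := ih₂ hp₀.2
    refine ⟨g₁ * g₂, a₁ ∪ a₂, fun h => (p₀.isPrime.mem_or_mem h).elim h₁ h₂, fun x hx => ?_, fun p hg ha => ?_⟩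
    · exact (Finset.mem_union.mp hx).elim (ha₁ x) (ha₂ x)
    · exact ⟨hs₁ p (fun h => hg (Ideal.mul_mem_right _ _ h)) (fun x hx => ha x (Finset.mem_union_left _ hx)),
        hs₂ p (fun h => hg (Ideal.mul_mem_left _ _ h)) (fun x hx => ha x (Finset.mem_union_right _ hx))⟩
  | sUnion S _ ih =>
    obtain ⟨s, hs, hps⟩ := hp₀
    obtain ⟨g, a, hg, ha, h⟩ := ih s hs hps
    exact ⟨g, a, hg, ha, fun p hp hp' => ⟨s, hs, h p hp hp'⟩⟩

/-- A constructibly closed `E` is the image of `Spec ∏_{p ∈ E} κ(p)`. -/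
theorem range_prod_residueField {A : Type u} [CommRing A] {E : Set (PrimeSpectrum A)}
    (hE : IsClosed[constructibleTopology (PrimeSpectrum A)] E) :
    Set.range (PrimeSpectrum.comap
      (RingHom.pi fun p : E => algebraMap A p.1.asIdeal.ResidueField)) = E := by
  classical
  set φ := RingHom.pi fun p : E => algebraMap A p.1.asIdeal.ResidueField
  refine subset_antisymm ?_ fun p hp => ?_
  · rintro p₀ ⟨q, rfl⟩
    by_contra hq
    obtain ⟨g, a, hg, ha, hO⟩ := exists_piece
      ((@isOpen_compl_iff _ _ (constructibleTopology _)).mpr hE) (show PrimeSpectrum.comap φ q ∈ Eᶜ from hq)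
    let e : A → ∀ p : E, p.1.asIdeal.ResidueField := fun x p => if x ∈ p.1.asIdeal then 0 else 1
    have he : ∀ x ∈ a, e x ∈ q.asIdeal := fun x hx => by
      have : e x = φ x * fun p : E => (algebraMap A p.1.asIdeal.ResidueField x)⁻¹ := by
        funext p
        show e x p = algebraMap A _ x * _
        by_cases h : x ∈ p.1.asIdeal
        · simp [e, h, Ideal.algebraMap_residueField_eq_zero.mpr h]
        · rw [mul_inv_cancel₀ (fun h0 => h (Ideal.algebraMap_residueField_eq_zero.mp h0))]
          simp [e, h]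
      rw [this]
      exact Ideal.mul_mem_right _ _ (ha x hx)
    have h0 : φ g * ∏ x ∈ a, (1 - e x) = 0 := by
      funext p
      show algebraMap A _ g * (∏ x ∈ a, (1 - e x)) p = 0
      by_cases hgp : g ∈ p.1.asIdeal
      · rw [Ideal.algebraMap_residueField_eq_zero.mpr hgp, zero_mul]
      · obtain ⟨x, hx, hxp⟩ : ∃ x ∈ a, x ∉ p.1.asIdeal := by
          by_contra hc
          push Not at hc
          exact hO p.1 hgp hc p.2
        rw [Finset.prod_apply, Finset.prod_eq_zero hx (by simp [e, hxp]), mul_zero]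
    have := h0.symm ▸ q.asIdeal.zero_mem
    rcases q.isPrime.mem_or_mem this with h | h
    · exact hg h
    · obtain ⟨x, hx, hxq⟩ := q.isPrime.prod_mem_iff.mp h
      exact q.isPrime.ne_top ((Ideal.eq_top_iff_one _).mpr (by simpa using add_mem hxq (he x hx)))
  · refine ⟨PrimeSpectrum.comap (Pi.evalRingHom (fun p : E => p.1.asIdeal.ResidueField) ⟨p, hp⟩) ⟨⊥, Ideal.isPrime_bot⟩,
      PrimeSpectrum.ext ?_⟩
    ext x
    show algebraMap A p.asIdeal.ResidueField x ∈ (⊥ : Ideal p.asIdeal.ResidueField) ↔ _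
    rw [Ideal.mem_bot, Ideal.algebraMap_residueField_eq_zero]

/-- In a quasi-compact quasi-separated prespectral space constructibly closed = intersection of constructible. -/
theorem isClosed_cons_iff {X : Type u} [TopologicalSpace X] [CompactSpace X] [QuasiSeparatedSpace X]
    [PrespectralSpace X] {E : Set X} :
    IsClosed[constructibleTopology X] E ↔ ∃ S : Set (Set X), (∀ s ∈ S, IsConstructible s) ∧ E = ⋂₀ S := by
  refine ⟨fun h => ⟨{C | IsConstructible C ∧ E ⊆ C}, fun C hC => hC.1, ?_⟩, ?_⟩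
  · refine subset_antisymm (fun z hz => Set.mem_sInter.mpr fun C hC => hC.2 hz) fun z hz => ?_
    by_contra hzE
    obtain ⟨C, hC, hzC, hCs⟩ := FDesc.ProConsImage.exists_isConstructible_subset
      ((@isOpen_compl_iff _ _ (constructibleTopology _)).mpr h) hzE
    exact Set.mem_sInter.mp hz Cᶜ ⟨hC.compl, fun w hw hwC => hCs hwC hw⟩ hzC
  · rintro ⟨S, hS, rfl⟩
    exact @isClosed_sInter X (constructibleTopology X) _ fun s hs => (LimTop.isClopen_cons_of_isConstructible (hS s hs)).2

theorem range_sigmaDesc {ι : Type u} {Y : ι → Scheme.{u}} {X : Scheme.{u}} (g : ∀ i, Y i ⟶ X) :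
    Set.range (Sigma.desc g).base = ⋃ i, Set.range (g i).base := by
  ext x
  constructor
  · rintro ⟨z, rfl⟩
    obtain ⟨i, w, rfl⟩ := (sigmaOpenCover Y).exists_eq z
    exact Set.mem_iUnion.mpr ⟨i, w, (congr($(Sigma.ι_desc g i) w)).symm.trans (Scheme.Hom.comp_apply _ _ _)⟩
  · intro hx
    obtain ⟨i, w, rfl⟩ := Set.mem_iUnion.mp hx
    exact ⟨(Sigma.ι Y i).base w, by rw [← Scheme.Hom.comp_apply, Sigma.ι_desc]⟩

/-- A constructibly closed subset of a quasi-compact quasi-separated scheme is the image of an affine scheme. -/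
theorem exists_affine_range_eq {X : Scheme.{u}} [CompactSpace X] [QuasiSeparatedSpace X] {E : Set X}
    (hE : ProCons.IsProConstructible E) :
    ∃ (X' : Scheme.{u}) (f : X' ⟶ X), IsAffine X' ∧ Set.range f.base = E := by
  obtain ⟨S, hS, hSU⟩ := isCompact_and_isOpen_iff_finite_and_eq_biUnion_affineOpens.mp
    (⟨isCompact_univ, isOpen_univ⟩ : IsCompact (Set.univ : Set X) ∧ IsOpen (Set.univ : Set X))
  have := hS.to_subtype
  let R : S → CommRingCat.{u} := fun U => Γ(X, U.1)
  let F : (U : S) → Spec (R U) ⟶ X := fun U => U.1.2.fromSpec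
  let EU : (U : S) → Set (PrimeSpectrum (R U)) := fun U => (F U).base ⁻¹' E
  have hEU : ∀ U, IsClosed[constructibleTopology (PrimeSpectrum (R U))] (EU U) :=
    fun U => LimTop.isClosed_cons_preimage (F U) hE
  let B : S → CommRingCat.{u} := fun U => CommRingCat.of (∀ p : EU U, p.1.asIdeal.ResidueField)
  let g : (U : S) → Spec (B U) ⟶ X := fun U =>
    Spec.map (CommRingCat.ofHom (RingHom.pi fun p : EU U => algebraMap (R U) p.1.asIdeal.ResidueField)) ≫ F U
  have hr : ∀ U, Set.range (g U).base = (U.1.1 : Set X) ∩ E := fun U => by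
    simp only [g, Scheme.Hom.comp_base, TopCat.coe_comp, Set.range_comp]
    have h1 := range_prod_residueField (hEU U)
    erw [h1]
    exact Set.image_preimage_eq_range_inter.trans (congrArg (· ∩ E) U.1.2.range_fromSpec)
  refine ⟨∐ fun U => Spec (B U), Sigma.desc g, inferInstance, ?_⟩
  rw [range_sigmaDesc, Set.iUnion_congr hr, ← Set.iUnion_inter]
  rw [show (⋃ U : S, (U.1.1 : Set X)) = Set.univ by rw [hSU, Set.biUnion_eq_iUnion], Set.univ_inter]

set_option backward.isDefEq.respectTransparency false in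
open PrimeSpectrum in
/-- A constructible subset of a quasi-compact quasi-separated scheme is the image of a finitely
presented morphism from an affine scheme. -/
theorem exists_affine_lfp_range_eq {X : Scheme.{u}} [CompactSpace X] [QuasiSeparatedSpace X] {Z : Set X}
    (hZ : IsConstructible Z) :
    ∃ (X' : Scheme.{u}) (f : X' ⟶ X), IsAffine X' ∧ LocallyOfFinitePresentation f ∧ Set.range f.base = Z := by
  classical
  obtain ⟨S, hS, hSU⟩ := isCompact_and_isOpen_iff_finite_and_eq_biUnion_affineOpens.mp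
    (⟨isCompact_univ, isOpen_univ⟩ : IsCompact (Set.univ : Set X) ∧ IsOpen (Set.univ : Set X))
  have := hS.to_subtype
  let R : S → CommRingCat.{u} := fun U => Γ(X, U.1)
  let F : (U : S) → Spec (R U) ⟶ X := fun U => U.1.2.fromSpec
  have hF : ∀ U, LocallyOfFinitePresentation (F U) := fun U => by
    haveI : IsOpenImmersion (F U) := U.1.2.isOpenImmersion_fromSpec
    infer_instance
  choose d hd using fun U : S => exists_constructibleSetData_iff.mpr ((F U).isConstructible_preimage hZ)
  let ι : Type u := Σ U : S, {C // C ∈ d U}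
  let A : ι → Type u := fun i =>
    Localization.Away (Ideal.Quotient.mk (Ideal.span (Set.range i.2.1.g)) i.2.1.f)
  let g : (i : ι) → Spec (CommRingCat.of (A i)) ⟶ X := fun i =>
    Spec.map (CommRingCat.ofHom (algebraMap (R i.1) (A i))) ≫ F i.1
  have hg : ∀ i, LocallyOfFinitePresentation (g i) := fun i => by
    haveI : Algebra.FinitePresentation (R i.1) ((R i.1) ⧸ Ideal.span (Set.range i.2.1.g)) :=
      Algebra.FinitePresentation.quotient (Submodule.fg_span (Set.finite_range _))
    haveI : Algebra.FinitePresentation (R i.1) (A i) :=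
      Algebra.FinitePresentation.trans (R i.1) ((R i.1) ⧸ Ideal.span (Set.range i.2.1.g)) (A i)
    haveI : LocallyOfFinitePresentation (Spec.map (CommRingCat.ofHom (algebraMap (R i.1) (A i)))) :=
      (LocallyOfFinitePresentation.SpecMap_iff _).mpr (RingHom.finitePresentation_algebraMap.mpr inferInstance)
    haveI := hF i.1
    show LocallyOfFinitePresentation (_ ≫ _)
    infer_instance
  refine ⟨∐ fun i => Spec (CommRingCat.of (A i)), Sigma.desc g, inferInstance,
    IsZariskiLocalAtSource.sigmaDesc (P := @LocallyOfFinitePresentation.{u}) hg, ?_⟩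
  have hr : ∀ i, Set.range (g i).base = (F i.1).base '' i.2.1.toSet := fun i => by
    simp only [g, Scheme.Hom.comp_base, TopCat.coe_comp, Set.range_comp]
    refine congrArg _ ?_
    show Set.range (PrimeSpectrum.comap (algebraMap (R i.1) (A i))) = _
    rw [IsScalarTower.algebraMap_eq (R i.1) ((R i.1) ⧸ Ideal.span (Set.range i.2.1.g)) (A i),
      PrimeSpectrum.comap_comp, Set.range_comp,
      localization_away_comap_range (A i) (Ideal.Quotient.mk (Ideal.span (Set.range i.2.1.g)) i.2.1.f),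
      ← comap_basicOpen, TopologicalSpace.Opens.coe_comap, ContinuousMap.coe_mk,
      Ideal.Quotient.algebraMap_eq, Set.image_preimage_eq_inter_range,
      range_comap_of_surjective _ _ Ideal.Quotient.mk_surjective, BasicConstructibleSetData.toSet,
      Set.sdiff_eq_compl_inter, basicOpen_eq_zeroLocus_compl, Ideal.mk_ker, zeroLocus_span]
  rw [range_sigmaDesc, Set.iUnion_congr hr]
  ext x
  constructor
  · intro hx
    obtain ⟨⟨U, C, hC⟩, p, hp, rfl⟩ := Set.mem_iUnion.mp hx
    exact (hd U).le (Set.mem_biUnion hC hp)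
  · intro hx
    obtain ⟨U, hU, hxU⟩ := Set.mem_iUnion₂.mp (hSU.le (Set.mem_univ x))
    obtain ⟨p, rfl⟩ : x ∈ Set.range (F ⟨U, hU⟩).base := by
      rw [show F ⟨U, hU⟩ = U.2.fromSpec from rfl, U.2.range_fromSpec]; exact hxU
    obtain ⟨C, hC, hpC⟩ := Set.mem_iUnion₂.mp ((hd ⟨U, hU⟩).ge hx)
    exact Set.mem_iUnion.mpr ⟨⟨⟨U, hU⟩, C, hC⟩, p, hpC, rfl⟩

end Groth.Agent.ProConsX.Range
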